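import Cfsg.Agent.CosetEnum.He.Cent.Conj

/-! Kernel checks: the listed conjugates have the listed, increasing codes. -/

set_option autoImplicit false
set_option maxRecDepth 100000

namespace CfsgLib.CosetEnum.He.Cent

open CfsgLib.CosetEnum

/-- decode a word -/
def decodeW : ℕ → ℕ → List ℕ
  | 0, _ => []
  | fuel + 1, n => bif Nat.beq n 0 then [] else (n % 8 - 1) :: decodeW fuel (n / 8)

/-- the images of the four base points under a word, as one number -/
noncomputable def codeOf (w : List ℕ) : ℕ :=
  ((runT Tab.perm.T Tab.perm.L w 0 * 2058 + runT Tab.perm.T Tab.perm.L w 1) * 2058 +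
    runT Tab.perm.T Tab.perm.L w 180) * 2058 + runT Tab.perm.T Tab.perm.L w 1380

/-- the word of a conjugate -/
def conjWord (e : ℕ) : List ℕ := (decodeW 64 e).reverse ++ [3] ++ decodeW 64 e

/-- letters of the point stabilizer -/
noncomputable def inH (e : ℕ) : Bool :=
  (decodeW 64 e).all (fun x => x.blt 7) && Nat.beq (runT Tab.perm.T Tab.perm.L (decodeW 64 e) 0) 0

theorem conj_check0 : (conj0.all inH &&
    (conj0.map (fun e => codeOf (conjWord e)) == code0)) = true := by
  decide +kernel

theorem conj_check1 : (conj1.all inH &&
    (conj1.map (fun e => codeOf (conjWord e)) == code1)) = true := by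
  decide +kernel

theorem conj_check2 : (conj2.all inH &&
    (conj2.map (fun e => codeOf (conjWord e)) == code2)) = true := by
  decide +kernel

theorem conj_check3 : (conj3.all inH &&
    (conj3.map (fun e => codeOf (conjWord e)) == code3)) = true := by
  decide +kernel

theorem conj_check4 : (conj4.all inH &&
    (conj4.map (fun e => codeOf (conjWord e)) == code4)) = true := by
  decide +kernel

theorem conj_check5 : (conj5.all inH &&
    (conj5.map (fun e => codeOf (conjWord e)) == code5)) = true := by
  decide +kernel

theorem conj_check6 : (conj6.all inH &&
    (conj6.map (fun e => codeOf (conjWord e)) == code6)) = true := by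
  decide +kernel

theorem conj_check7 : (conj7.all inH &&
    (conj7.map (fun e => codeOf (conjWord e)) == code7)) = true := by
  decide +kernel

theorem conj_check8 : (conj8.all inH &&
    (conj8.map (fun e => codeOf (conjWord e)) == code8)) = true := by
  decide +kernel

theorem conj_check9 : (conj9.all inH &&
    (conj9.map (fun e => codeOf (conjWord e)) == code9)) = true := by
  decide +kernel

theorem conj_check10 : (conj10.all inH &&
    (conj10.map (fun e => codeOf (conjWord e)) == code10)) = true := by
  decide +kernel

theorem conj_check11 : (conj11.all inH &&
    (conj11.map (fun e => codeOf (conjWord e)) == code11)) = true := by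
  decide +kernel

theorem conj_check12 : (conj12.all inH &&
    (conj12.map (fun e => codeOf (conjWord e)) == code12)) = true := by
  decide +kernel

theorem conj_check13 : (conj13.all inH &&
    (conj13.map (fun e => codeOf (conjWord e)) == code13)) = true := by
  decide +kernel

theorem conj_check14 : (conj14.all inH &&
    (conj14.map (fun e => codeOf (conjWord e)) == code14)) = true := by
  decide +kernel

end CfsgLib.CosetEnum.He.Cent
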