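import Cfsg.Agent.LargeExtraspecial.Transvection
import Cfsg.Agent.CosetEnum.He.Cent.Data

/-!
The centralizer of a transvection in SL(5, 2): at most 21504 elements, acting faithfully on the 16
vectors with second coordinate 1.
-/

set_option autoImplicit false

namespace CfsgLib.CosetEnum.He.Cent

open CfsgLib.LargeExtraspecial.Transvection (SL2F blk Shape shape_of_comm blk_mul blk_one sh
  forall_index det_eq_one_of_mul)

variable {s : SL2F 5}

theorem card_det_one : Nat.card {M : Matrix (Fin 3) (Fin 3) (ZMod 2) // M.det = 1} = 168 := by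
  rw [Nat.card_eq_fintype_card]
  have e : (Finset.univ.filter fun M : Matrix (Fin 3) (Fin 3) (ZMod 2) =>
      M 0 0 * M 1 1 * M 2 2 - M 0 0 * M 1 2 * M 2 1 - M 0 1 * M 1 0 * M 2 2 + M 0 1 * M 1 2 * M 2 0
        + M 0 2 * M 1 0 * M 2 1 - M 0 2 * M 1 1 * M 2 0 = 1).card = 168 := by decide +kernel
  rw [← e, Fintype.card_subtype]
  refine congrArg Finset.card (Finset.filter_congr fun M _ => ?_)
  rw [Matrix.det_fin_three]

theorem card_centralizer_le' (hs : (s : Matrix (Fin 5) (Fin 5) (ZMod 2)) = Matrix.transvection 0 1 1) :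
    Nat.card (Subgroup.centralizer {s}) ≤ 21504 := by
  let C := Subgroup.centralizer {s}
  have hsh : ∀ g : C, Shape (n := 3) (g : SL2F 5) := fun g =>
    shape_of_comm hs (Subgroup.mem_centralizer_iff.1 g.2 s rfl).symm
  let M : C → Matrix (Fin 5) (Fin 5) (ZMod 2) := fun g => ((g : SL2F 5) : Matrix _ _ _)
  have hdet : ∀ g : C, (blk (n := 3) (g : SL2F 5)).det = 1 := fun g => by
    refine det_eq_one_of_mul (Y := blk (n := 3) ((g⁻¹ : C) : SL2F 5)) ?_
    rw [← blk_mul (hsh g) (hsh g⁻¹), Subgroup.coe_inv, mul_inv_cancel]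
    exact blk_one
  let f : C → (Fin 3 → ZMod 2) × (Fin 3 → ZMod 2) × ZMod 2 ×
      {B : Matrix (Fin 3) (Fin 3) (ZMod 2) // B.det = 1} :=
    fun g => (fun j => M g 0 (sh j), fun i => M g (sh i) 1, M g 0 1, ⟨_, hdet g⟩)
  have hf : Function.Injective f := by
    intro g k h
    obtain ⟨h1, h2, h3, h4⟩ : _ ∧ _ ∧ _ ∧ _ := by simpa [f, Prod.ext_iff] using h
    refine Subtype.ext (Subtype.ext (Matrix.ext fun i j => ?_))
    induction i using forall_index with
    | h0 =>
      induction j using forall_index with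
      | h0 => rw [(hsh g).c00, (hsh k).c00]
      | h1 => exact h3
      | hs j => exact congrFun h1 j
    | h1 =>
      induction j using forall_index with
      | h0 => rw [(hsh g).row _ (by decide), (hsh k).row _ (by decide)]
      | h1 => rw [(hsh g).c11, (hsh k).c11]
      | hs j =>
        rw [(hsh g).row _ (CfsgLib.LargeExtraspecial.Transvection.sh_ne_one j),
          (hsh k).row _ (CfsgLib.LargeExtraspecial.Transvection.sh_ne_one j)]
    | hs i =>
      induction j using forall_index with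
      | h0 => rw [(hsh g).col _ (Fin.succ_ne_zero _), (hsh k).col _ (Fin.succ_ne_zero _)]
      | h1 => exact congrFun h2 i
      | hs j => exact congrFun (congrFun h4 i) j
  refine (Nat.card_le_card_of_injective f hf).trans ?_
  rw [Nat.card_prod, Nat.card_prod, Nat.card_prod, card_det_one]
  simp

/-- the vector of a number -/
def vecOfNat (c : ℕ) : Fin 5 → ZMod 2 := fun i => bif c.testBit i then 1 else 0

/-- the number of a vector -/
def natOfVec (v : Fin 5 → ZMod 2) : ℕ :=
  ∑ i : Fin 5, if v i = 1 then 2 ^ (i : ℕ) else 0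

/-- the vector of a point -/
def ptVec (k : Fin 16) : Fin 5 → ZMod 2 := vecOfNat (vecs.getD k 0)

/-- the point of a vector -/
def vecPt (v : Fin 5 → ZMod 2) : Fin 16 :=
  ⟨(vecs.idxOf (natOfVec v)) % 16, Nat.mod_lt _ (by norm_num)⟩

theorem ptVec_one : ∀ k, ptVec k 1 = 1 := by decide +kernel

theorem ptVec_vecPt : ∀ v : Fin 5 → ZMod 2, v 1 = 1 → ptVec (vecPt v) = v := by decide +kernel

theorem vecPt_ptVec : ∀ k, vecPt (ptVec k) = k := by decide +kernel

theorem mulVec_one_coord (hs : (s : Matrix (Fin 5) (Fin 5) (ZMod 2)) = Matrix.transvection 0 1 1)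
    (g : Subgroup.centralizer {s}) (v : Fin 5 → ZMod 2) :
    ((g : SL2F 5) : Matrix (Fin 5) (Fin 5) (ZMod 2)).mulVec v 1 = v 1 := by
  have h : Shape (n := 3) (g : SL2F 5) :=
    shape_of_comm hs (Subgroup.mem_centralizer_iff.1 g.2 s rfl).symm
  rw [Matrix.mulVec, dotProduct, Finset.sum_eq_single 1 (fun j _ hj => by rw [h.row j hj, zero_mul])
    (fun hn => absurd (Finset.mem_univ _) hn), h.c11, one_mul]

/-- the map of points induced by a matrix -/
def actFun (M : Matrix (Fin 5) (Fin 5) (ZMod 2)) (k : Fin 16) : Fin 16 := vecPt (M.mulVec (ptVec k))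

variable (hs : (s : Matrix (Fin 5) (Fin 5) (ZMod 2)) = Matrix.transvection 0 1 1)
include hs

theorem actFun_mul (g h : Subgroup.centralizer {s}) (k : Fin 16) :
    actFun ((g * h : Subgroup.centralizer {s}) : SL2F 5).1 k =
      actFun (g : SL2F 5).1 (actFun (h : SL2F 5).1 k) := by
  have h1 : (((h : SL2F 5) : Matrix (Fin 5) (Fin 5) (ZMod 2)).mulVec (ptVec k)) 1 = 1 := by
    rw [mulVec_one_coord hs, ptVec_one]
  show vecPt _ = vecPt (Matrix.mulVec _ (ptVec (vecPt _)))
  rw [ptVec_vecPt _ h1, Matrix.mulVec_mulVec]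
  rfl

theorem actFun_one (k : Fin 16) :
    actFun ((1 : Subgroup.centralizer {s}) : SL2F 5).1 k = k := by
  show vecPt (Matrix.mulVec (1 : Matrix (Fin 5) (Fin 5) (ZMod 2)) (ptVec k)) = k
  rw [Matrix.one_mulVec, vecPt_ptVec]

/-- the action of the centralizer on the sixteen points -/
def act : Subgroup.centralizer {s} →* Equiv.Perm (Fin 16) where
  toFun g := ⟨actFun (g : SL2F 5).1, actFun (g⁻¹ : Subgroup.centralizer {s}).1.1,
    fun k => by rw [← actFun_mul hs, inv_mul_cancel, actFun_one hs],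
    fun k => by rw [← actFun_mul hs, mul_inv_cancel, actFun_one hs]⟩
  map_one' := Equiv.ext fun k => actFun_one hs k
  map_mul' g h := Equiv.ext fun k => actFun_mul hs g h k

theorem act_injective : Function.Injective (act hs) := by
  rw [← MonoidHom.ker_eq_bot_iff, eq_bot_iff]
  intro g hg
  have hfix : ∀ v : Fin 5 → ZMod 2, v 1 = 1 → ((g : SL2F 5) : Matrix _ _ _).mulVec v = v := by
    intro v hv
    have h := congrArg ptVec (Equiv.congr_fun (MonoidHom.mem_ker.1 hg) (vecPt v))
    rw [show (act hs g) (vecPt v) = actFun (g : SL2F 5).1 (vecPt v) from rfl, actFun,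
      ptVec_vecPt _ hv, ptVec_vecPt _ ((mulVec_one_coord hs g v).trans hv)] at h
    exact h.trans (ptVec_vecPt _ hv)
  refine Subgroup.mem_bot.2 (Subtype.ext (Subtype.ext (Matrix.ext fun i j => ?_)))
  have e : ((g : SL2F 5) : Matrix (Fin 5) (Fin 5) (ZMod 2)).mulVec (Pi.single 1 1) =
      Pi.single 1 1 := hfix _ (by simp)
  by_cases hj : j = 1
  · subst hj
    have h := congrFun e i
    rw [Matrix.mulVec_single_one] at h
    simpa [Matrix.one_apply, Pi.single_apply] using h
  · have h := hfix (Pi.single j 1 + Pi.single 1 1) (by simp [Ne.symm hj])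
    rw [Matrix.mulVec_add, e, add_left_inj] at h
    have h' := congrFun h i
    rw [Matrix.mulVec_single_one] at h'
    simpa [Matrix.one_apply, Pi.single_apply] using h'

end CfsgLib.CosetEnum.He.Cent
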