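import Cfsg.Agent.CosetEnum.He.Cent.Upper
import Cfsg.Agent.CosetEnum.He.Cent.Matrix
import Cfsg.Agent.CosetEnum.He.Cent.Grp.Upper
import Cfsg.Agent.CosetEnum.Chain

/-!
The centralizer of the involution `d` of the Held group is isomorphic to the centralizer of a
transvection in SL(5, 2): both are generated by two elements satisfying relators which allow at
most 21504 elements, and both have at least that many.
-/

set_option autoImplicit false

namespace CfsgLib.CosetEnum.He.Cent

open CfsgLib.LargeExtraspecial.Transvection (SL2F det_eq_one_of_mul)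

/-- the formal inverse of the four letters -/
def iv4 (x : ℕ) : ℕ := x ^^^ 1

/-- the table on sixteen points -/
noncomputable abbrev D16 : PermData := ⟨4, 16, iv4, rels, T16, par16⟩

theorem points16 : allBelow (checkPoint iv4 4 rels T16 par16 16) 16 = true := by decide +kernel

theorem ok16 : D16.OK where
  hn := by norm_num
  letters := by decide +kernel
  point := fun i hi => (Model.allBelow_iff _ _).1 points16 i hi

/-- the permutation of a word in the four letters on the 2058 points -/
noncomputable def sg (x : ℕ) : Equiv.Perm (Fin Tab.perm.n) := gword perm_ok.sigma (W4.getD x [])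

theorem W4_small : W4.all (fun w => w.all fun x => x.blt 7) = true := by decide +kernel

theorem W4_lt (x : ℕ) : ∀ y ∈ W4.getD x [], y < 7 := by
  intro y hy
  by_cases hx : x < W4.length
  · rw [List.getD_eq_getElem _ _ hx] at hy
    have := List.all_eq_true.1 (List.all_eq_true.1 W4_small _ (List.getElem_mem hx)) y hy
    simpa [Nat.blt, Nat.ble_eq] using this
  · rw [List.getD_eq_default _ _ (not_lt.1 hx)] at hy
    exact absurd hy List.not_mem_nil

theorem iv4_cases : ∀ x < 4, iv4 x < 4 ∧ W4.getD (iv4 x) [] = (W4.getD x []).reverse := by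
  decide +kernel

theorem iv4_large : ∀ x, ¬ x < 4 → ¬ iv4 x < 4 := by
  intro x hx h
  have h2 := (iv4_cases _ h).1
  rw [iv4, iv4, Nat.xor_assoc, Nat.xor_self, Nat.xor_zero] at h2
  exact hx h2

/-- the pairs of the letters -/
noncomputable def pairG : ℕ → Equiv.Perm (Fin Tab.perm.n) × Equiv.Perm (Fin D16.n) :=
  letterVal 4 fun x => (sg x, ok16.sigma x)

theorem sg_inv {x : ℕ} (hx : x < 4) : sg (iv4 x) = (sg x)⁻¹ := by
  rw [sg, sg, (iv4_cases x hx).2]
  have h := gword_inverse perm_ok.sigma Tab.perm.iv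
    (fun y => perm_ok.sigma_iv_all (fun _ hy => hy) y) (W4.getD x [])
  rw [show ((W4.getD x []).reverse.map Tab.perm.iv) = (W4.getD x []).reverse from List.map_id _] at h
  exact h

theorem pairG_inv (x : ℕ) : pairG (iv4 x) = (pairG x)⁻¹ :=
  letterVal_inv 4 _ iv4 (fun y hy => ⟨(iv4_cases y hy).1,
    Prod.ext (sg_inv hy) (ok16.sigma_iv (show y < D16.L from hy))⟩) iv4_large x

/-- An element fixing the base points is trivial. -/
theorem eq_one_of_base {a : Equiv.Perm (Fin Tab.perm.n)} (ha : a ∈ pi.range)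
    (h : ∀ p ∈ [P3, P2, P1, P0], a p = p) : a = 1 := by
  have hb := card_range_ge
  rw [card_range_eq] at hb
  have h1 : Nat.card (pointStab pi.range [P3, P2, P1, P0]) = 1 := by
    have := Nat.card_pos (α := pointStab pi.range [P3, P2, P1, P0])
    omega
  have hm : a ∈ pointStab pi.range [P3, P2, P1, P0] := mem_pointStab.2 ⟨ha, h⟩
  rw [Subgroup.eq_bot_of_card_eq _ h1] at hm
  exact Subgroup.mem_bot.1 hm

theorem gword_sg (w : List ℕ) :
    gword sg w = gword perm_ok.sigma (w.flatMap fun x => W4.getD x []) := by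
  induction w with
  | nil => rfl
  | cons x w ih =>
    rw [gword_cons, ih, List.flatMap_cons, sg]
    simp [gword, List.map_append, List.prod_append]

theorem rels_check : rels.all (fun w => w.all (fun x => x.blt 4) && ([0, 1, 180, 1380] : List ℕ).all
    (fun i => Nat.beq (runT Tab.perm.T Tab.perm.L (w.flatMap fun x => W4.getD x []) i) i)) = true := by
  decide +kernel

theorem gword_pair (g : ℕ → Equiv.Perm (Fin Tab.perm.n)) (g' : ℕ → Equiv.Perm (Fin D16.n))
    (w : List ℕ) : gword (fun x => (g x, g' x)) w = (gword g w, gword g' w) := by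
  induction w with
  | nil => rfl
  | cons x w ih => rw [gword_cons, gword_cons, gword_cons, ih]; rfl

theorem gword_rels : ∀ w ∈ rels, gword pairG w = 1 := by
  intro w hw
  have h := List.all_eq_true.1 rels_check w hw
  rw [Bool.and_eq_true] at h
  have hx : ∀ x ∈ w, x < 4 := fun x hx => by
    have := List.all_eq_true.1 h.1 x hx
    simpa [Nat.blt, Nat.ble_eq] using this
  rw [pairG, gword_letterVal _ hx, gword_pair, Prod.mk_eq_one]
  refine ⟨?_, ok16.gword_rel hw⟩
  rw [gword_sg]
  have hs : ∀ y ∈ w.flatMap (fun x => W4.getD x []), y < 7 := fun y hy => by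
    obtain ⟨x, -, hy'⟩ := List.mem_flatMap.1 hy
    exact W4_lt x y hy'
  refine eq_one_of_base ⟨gword g7 _, pi_gword _ hs⟩ fun p hp => ?_
  refine (Equiv.Perm.inv_eq_iff_eq.1 (Fin.ext ?_)).symm
  rw [perm_ok.gword_inv_apply _ hs]
  refine Nat.eq_of_beq_eq_true (List.all_eq_true.1 h.2 (p : ℕ) ?_)
  simp only [List.mem_cons, List.not_mem_nil, or_false] at hp
  rcases hp with rfl | rfl | rfl | rfl <;> simp [pt_val]

/-- the group of pairs -/
noncomputable def Gamma : Subgroup (Equiv.Perm (Fin Tab.perm.n) × Equiv.Perm (Fin D16.n)) :=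
  Subgroup.closure {a | ∃ x < 4, pairG x = a}

theorem card_Gamma_le : Nat.card Gamma ≤ 21504 ∧ Nat.card Gamma ≠ 0 := by
  have hw : wordsFrom iv4 rels (Grp.cert.words.take Grp.cert.nr) = true := by decide +kernel
  have hs : (Grp.cert.words.drop Grp.cert.nr).all (fun w => w == [0]) = true := by decide +kernel
  have h7 : rels.contains (List.replicate 7 0) = true := by decide +kernel
  have hb := gword_of_wordsFrom pairG iv4 pairG_inv hw gword_rels
  set K := Subgroup.zpowers (pairG 0)
  have hrel : ∀ (k : ℕ) (w : List ℕ), Grp.cert.words[k]? = some w → k < Grp.cert.nr →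
      gword pairG w = 1 := fun k w hk hlt =>
    hb w (List.mem_of_getElem? (i := k) (by rw [List.getElem?_take, if_pos hlt, hk]))
  have hsub : ∀ (k : ℕ) (w : List ℕ), Grp.cert.words[k]? = some w → gword pairG w ∈ K := by
    intro k w hk
    by_cases hlt : k < Grp.cert.nr
    · rw [hrel k w hk hlt]; exact one_mem _
    · have hm := List.all_eq_true.1 hs w (List.mem_of_getElem? (i := k - Grp.cert.nr)
        (by rw [List.getElem?_drop, show Grp.cert.nr + (k - Grp.cert.nr) = k by omega, hk]))
      rw [beq_iff_eq.1 hm, gword_cons, gword_nil, mul_one]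
      exact Subgroup.mem_zpowers _
  have h := relIndex_le Grp.facts Grp.n_pos Grp.node_zero Grp.rows K pairG pairG_inv hrel hsub
  change K.relIndex Gamma ≤ 3072 ∧ K.relIndex Gamma ≠ 0 at h
  have hle : K ≤ Gamma := by
    rw [Subgroup.zpowers_le]
    exact Subgroup.subset_closure ⟨0, by norm_num, rfl⟩
  have hm := Subgroup.relIndex_mul_relIndex ⊥ K Gamma bot_le hle
  rw [Subgroup.relIndex_bot_left, Subgroup.relIndex_bot_left, Nat.card_zpowers] at hm
  have hp : pairG 0 ^ 7 = 1 := by
    rw [← List.prod_replicate, ← List.map_replicate]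
    exact gword_rels _ (List.contains_iff_mem.1 h7)
  have ho : orderOf (pairG 0) ≤ 7 := Nat.le_of_dvd (by norm_num) (orderOf_dvd_of_pow_eq_one hp)
  have ho0 : orderOf (pairG 0) ≠ 0 := (orderOf_pos _).ne'
  rw [← hm]
  exact ⟨(Nat.mul_le_mul ho h.1).trans (by norm_num), Nat.mul_ne_zero ho0 h.2⟩

/-- the projection to the 2058 points -/
noncomputable def toPts : Gamma →* Equiv.Perm (Fin Tab.perm.n) :=
  (MonoidHom.fst _ _).comp Gamma.subtype

/-- the projection to the sixteen points -/
noncomputable def to16 : Gamma →* Equiv.Perm (Fin D16.n) :=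
  (MonoidHom.snd _ _).comp Gamma.subtype

theorem toPts_gens : W4.all (fun w => w.all fun x => x.blt 7) = true := W4_small

theorem level_ge {D : PermData} (h : D.OK) (S : List (List ℕ))
    (hS : (S.all fun w => w.all fun x => x.blt D.L) = true)
    (lab orank opar ogen root : ℕ → ℕ)
    (hc : allBelow (fun i => checkOrbit D.T D.L S lab orank opar ogen root D.n i) D.n = true)
    (R : Subgroup (Equiv.Perm (Fin D.n))) (hR : ∀ w ∈ S, gword h.sigma w ∈ R)
    (pts : List (Fin D.n))
    (hfix : S.all (fun w => pts.all fun p => runT D.T D.L w p == (p : ℕ)) = true)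
    (p : Fin D.n) {k m : ℕ} (hk : countLabel lab (lab p) D.n = k)
    (hm : m ≤ Nat.card (pointStab R (p :: pts))) : k * m ≤ Nat.card (pointStab R pts) := by
  have hS' : ∀ w ∈ S, ∀ x ∈ w, x < D.L := fun w hw x hx => by
    have := List.all_eq_true.1 (List.all_eq_true.1 hS w hw) x hx
    simpa [Nat.blt, Nat.ble_eq] using this
  have e : (MulAction.orbit (Subgroup.closure {a | ∃ w ∈ S, gword h.sigma w = a}) p).ncard = k := by
    rw [orbit_eq_label h S hS' lab orank opar ogen root
      (fun i hi => (Model.allBelow_iff _ _).1 hc i hi) _ rfl p, ncard_label]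
    exact hk
  rw [← e]
  exact card_pointStab_ge (closure_words_le_pointStab h S hS' R hR pts hfix) hm

theorem mem_to16 {w : List ℕ} (h : ∀ x ∈ w, x < 4) : gword ok16.sigma w ∈ to16.range := by
  refine gword_mem _ _ fun x hx => ?_
  refine ⟨⟨pairG x, Subgroup.subset_closure ⟨x, h x hx, rfl⟩⟩, ?_⟩
  show (pairG x).2 = _
  rw [pairG, letterVal_lt _ (h x hx)]

theorem orbitB0 : allBelow (fun i => checkOrbit D16.T D16.L wordsB0 labB0 rankB0 oparB0 ogenB0 rootB0
    D16.n i) D16.n = true := by decide +kernel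
theorem orbitB1 : allBelow (fun i => checkOrbit D16.T D16.L wordsB1 labB1 rankB1 oparB1 ogenB1 rootB1
    D16.n i) D16.n = true := by decide +kernel
theorem orbitB2 : allBelow (fun i => checkOrbit D16.T D16.L wordsB2 labB2 rankB2 oparB2 ogenB2 rootB2
    D16.n i) D16.n = true := by decide +kernel
theorem orbitB3 : allBelow (fun i => checkOrbit D16.T D16.L wordsB3 labB3 rankB3 oparB3 ogenB3 rootB3
    D16.n i) D16.n = true := by decide +kernel

theorem mem_words {S : List (List ℕ)} (h : (S.all fun w => w.all fun x => x.blt 4) = true) :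
    ∀ w ∈ S, gword ok16.sigma w ∈ to16.range := fun w hw => mem_to16 fun x hx => by
  have := List.all_eq_true.1 (List.all_eq_true.1 h w hw) x hx
  simpa [Nat.blt, Nat.ble_eq] using this

theorem card_to16_ge : 21504 ≤ Nat.card to16.range := by
  let q : ℕ → Fin D16.n := fun i => ⟨i % 16, Nat.mod_lt _ (by norm_num)⟩
  have h3 := level_ge ok16 wordsB3 (by decide +kernel) labB3 rankB3 oparB3 ogenB3 rootB3 orbitB3
    to16.range (mem_words (by decide +kernel)) [q 2, q 1, q 0] (by decide +kernel) (q 3) (k := 8)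
    (by decide +kernel) (Nat.one_le_iff_ne_zero.2 Nat.card_pos.ne')
  have h2 := level_ge ok16 wordsB2 (by decide +kernel) labB2 rankB2 oparB2 ogenB2 rootB2 orbitB2
    to16.range (mem_words (by decide +kernel)) [q 1, q 0] (by decide +kernel) (q 2) (k := 12)
    (by decide +kernel) h3
  have h1 := level_ge ok16 wordsB1 (by decide +kernel) labB1 rankB1 oparB1 ogenB1 rootB1 orbitB1
    to16.range (mem_words (by decide +kernel)) [q 0] (by decide +kernel) (q 1) (k := 14)
    (by decide +kernel) h2
  have h0 := level_ge ok16 wordsB0 (by decide +kernel) labB0 rankB0 oparB0 ogenB0 rootB0 orbitB0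
    to16.range (mem_words (by decide +kernel)) [] (by decide +kernel) (q 0) (k := 16)
    (by decide +kernel) h1
  exact h0

theorem orbitA0_0 : allFrom (fun i => checkOrbit Tab.perm.T Tab.perm.L wordsA0 labA0 rankA0 oparA0 ogenA0 rootA0
    Tab.perm.n i) 0 343 = true := by decide +kernel
theorem orbitA0_343 : allFrom (fun i => checkOrbit Tab.perm.T Tab.perm.L wordsA0 labA0 rankA0 oparA0 ogenA0 rootA0
    Tab.perm.n i) 343 343 = true := by decide +kernel
theorem orbitA0_686 : allFrom (fun i => checkOrbit Tab.perm.T Tab.perm.L wordsA0 labA0 rankA0 oparA0 ogenA0 rootA0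
    Tab.perm.n i) 686 343 = true := by decide +kernel
theorem orbitA0_1029 : allFrom (fun i => checkOrbit Tab.perm.T Tab.perm.L wordsA0 labA0 rankA0 oparA0 ogenA0 rootA0
    Tab.perm.n i) 1029 343 = true := by decide +kernel
theorem orbitA0_1372 : allFrom (fun i => checkOrbit Tab.perm.T Tab.perm.L wordsA0 labA0 rankA0 oparA0 ogenA0 rootA0
    Tab.perm.n i) 1372 343 = true := by decide +kernel
theorem orbitA0_1715 : allFrom (fun i => checkOrbit Tab.perm.T Tab.perm.L wordsA0 labA0 rankA0 oparA0 ogenA0 rootA0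
    Tab.perm.n i) 1715 343 = true := by decide +kernel
theorem orbitA0 : allBelow (fun i => checkOrbit Tab.perm.T Tab.perm.L wordsA0 labA0 rankA0 oparA0 ogenA0 rootA0
    Tab.perm.n i) Tab.perm.n = true :=
  (Model.allBelow_iff _ _).2 (RangeChecked.all (RangeChecked.app 343 2058 (RangeChecked.app 343 1715 (RangeChecked.app 343 1372 (RangeChecked.app 343 1029 (RangeChecked.app 343 686 (RangeChecked.app 343 343 RangeChecked.zero orbitA0_0 rfl) orbitA0_343 rfl) orbitA0_686 rfl) orbitA0_1029 rfl) orbitA0_1372 rfl) orbitA0_1715 rfl))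

theorem orbitA1_0 : allFrom (fun i => checkOrbit Tab.perm.T Tab.perm.L wordsA1 labA1 rankA1 oparA1 ogenA1 rootA1
    Tab.perm.n i) 0 343 = true := by decide +kernel
theorem orbitA1_343 : allFrom (fun i => checkOrbit Tab.perm.T Tab.perm.L wordsA1 labA1 rankA1 oparA1 ogenA1 rootA1
    Tab.perm.n i) 343 343 = true := by decide +kernel
theorem orbitA1_686 : allFrom (fun i => checkOrbit Tab.perm.T Tab.perm.L wordsA1 labA1 rankA1 oparA1 ogenA1 rootA1
    Tab.perm.n i) 686 343 = true := by decide +kernel
theorem orbitA1_1029 : allFrom (fun i => checkOrbit Tab.perm.T Tab.perm.L wordsA1 labA1 rankA1 oparA1 ogenA1 rootA1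
    Tab.perm.n i) 1029 343 = true := by decide +kernel
theorem orbitA1_1372 : allFrom (fun i => checkOrbit Tab.perm.T Tab.perm.L wordsA1 labA1 rankA1 oparA1 ogenA1 rootA1
    Tab.perm.n i) 1372 343 = true := by decide +kernel
theorem orbitA1_1715 : allFrom (fun i => checkOrbit Tab.perm.T Tab.perm.L wordsA1 labA1 rankA1 oparA1 ogenA1 rootA1
    Tab.perm.n i) 1715 343 = true := by decide +kernel
theorem orbitA1 : allBelow (fun i => checkOrbit Tab.perm.T Tab.perm.L wordsA1 labA1 rankA1 oparA1 ogenA1 rootA1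
    Tab.perm.n i) Tab.perm.n = true :=
  (Model.allBelow_iff _ _).2 (RangeChecked.all (RangeChecked.app 343 2058 (RangeChecked.app 343 1715 (RangeChecked.app 343 1372 (RangeChecked.app 343 1029 (RangeChecked.app 343 686 (RangeChecked.app 343 343 RangeChecked.zero orbitA1_0 rfl) orbitA1_343 rfl) orbitA1_686 rfl) orbitA1_1029 rfl) orbitA1_1372 rfl) orbitA1_1715 rfl))

/-- words in the four letters giving the words of the second level -/
def preA1 : List (List ℕ) := [[3, 0, 2, 0, 3, 3, 0, 3], [0, 0, 3, 0, 2, 0, 0, 2, 0], [0, 2, 0, 2, 1, 3, 1, 3, 3]]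

theorem sg_mem {w : List ℕ} (h : ∀ x ∈ w, x < 4) : gword sg w ∈ toPts.range := by
  refine gword_mem _ _ fun x hx => ?_
  refine ⟨⟨pairG x, Subgroup.subset_closure ⟨x, h x hx, rfl⟩⟩, ?_⟩
  show (pairG x).1 = _
  rw [pairG, letterVal_lt _ (h x hx)]

theorem card_toPts_ge : 21504 ≤ Nat.card toPts.range := by
  have e0 : wordsA0 = ([[0], [1], [2], [3]] : List (List ℕ)).map (·.flatMap fun x => W4.getD x []) := by
    decide +kernel
  have e1 : wordsA1 = preA1.map (·.flatMap fun x => W4.getD x []) := by decide +kernel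
  have small : (preA1.all fun w => w.all fun x => x.blt 4) = true := by decide +kernel
  have h1 := level_ge perm_ok wordsA1 (by decide +kernel) labA1 rankA1 oparA1 ogenA1 rootA1 orbitA1
    toPts.range (by
      rw [e1]
      intro w hw
      obtain ⟨v, hv, rfl⟩ := List.mem_map.1 hw
      rw [← gword_sg]
      refine sg_mem fun x hx => ?_
      have := List.all_eq_true.1 (List.all_eq_true.1 small v hv) x hx
      simpa [Nat.blt, Nat.ble_eq] using this)
    [pt 12 (by omega)] (by decide +kernel) (pt 1478 (by omega)) (k := 16) (by decide +kernel)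
    (Nat.one_le_iff_ne_zero.2 Nat.card_pos.ne')
  have h0 := level_ge perm_ok wordsA0 (by decide +kernel) labA0 rankA0 oparA0 ogenA0 rootA0 orbitA0
    toPts.range (by
      rw [e0]
      intro w hw
      obtain ⟨v, hv, rfl⟩ := List.mem_map.1 hw
      rw [← gword_sg]
      exact sg_mem fun x hx =>
        (show ∀ v ∈ ([[0], [1], [2], [3]] : List (List ℕ)), ∀ x ∈ v, x < 4 by decide) v hv x hx)
    [] (by decide +kernel) (pt 12 (by omega)) (k := 1344) (by decide +kernel) h1
  exact h0

theorem bijective_of_ge {B : Type*} [Group B] [Finite B] (f : Gamma →* B)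
    (h : 21504 ≤ Nat.card f.range) : Function.Bijective f.rangeRestrict := by
  have hle := Nat.card_le_card_of_surjective _ f.rangeRestrict_surjective
  exact (Nat.bijective_iff_surjective_and_card _).2
    ⟨f.rangeRestrict_surjective, le_antisymm (card_Gamma_le.1.trans h) hle⟩

/-- the matrices of the four letters -/
def matOf (x : ℕ) : Matrix (Fin 5) (Fin 5) (ZMod 2) :=
  Matrix.of fun i j => bif ((matRows.getD x []).getD i 0).testBit j then 1 else 0

theorem matOf_mul : ∀ x < 4, matOf x * matOf (iv4 x) = 1 := by decide +kernel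

theorem matOf_comm : ∀ x < 4,
    matOf x * Matrix.transvection 0 1 1 = Matrix.transvection 0 1 1 * matOf x := by decide +kernel

theorem matOf_moves : ∀ x < 4, ∀ k : Fin 16,
    ((vecPt ((matOf (iv4 x)).mulVec (ptVec k)) : Fin 16) : ℕ) = runT T16 4 [x] k := by decide +kernel

theorem exists_iso (s : SL2F 5)
    (hs : (s : Matrix (Fin 5) (Fin 5) (ZMod 2)) = Matrix.transvection 0 1 1) :
    ∃ z : Cfsg.Spor.He, orderOf z = 2 ∧
      Nonempty (↥(Subgroup.centralizer ({z} : Set Cfsg.Spor.He)) ≃* ↥(Subgroup.centralizer {s})) := by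
  have := finite_he
  have hz1 : z0 ≠ 1 := by
    intro h
    have h1 := perm_ok.gword_inv_apply [3] (by decide +kernel) (pt 2 (by omega))
    rw [← pi_gword [3] (by simp), ← z0_eq, h, map_one, inv_one, Equiv.Perm.one_apply, pt_val] at h1
    exact absurd h1.symm (by decide +kernel)
  refine ⟨z0, orderOf_eq_prime (by rw [pow_two, z0_sq]) hz1, ?_⟩
  -- the Held side
  set C := Subgroup.centralizer ({z0} : Set Cfsg.Spor.He)
  have hcomm : ∀ x < 4, gword g7 (W4.getD x []) ∈ C := fun x hx => by
    rw [Subgroup.mem_centralizer_iff]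
    intro y hy
    rw [Set.mem_singleton_iff.1 hy, z0_eq, ← gword_app, ← gword_app]
    have hv : ∀ y ∈ W4.getD x [] , y < 7 := W4_lt x
    have hc : (List.range 4).all (fun x => ([0, 1, 180, 1380] : List ℕ).all fun i => Nat.beq
        (runT Tab.perm.T Tab.perm.L ([3] ++ W4.getD x []) i)
        (runT Tab.perm.T Tab.perm.L (W4.getD x [] ++ [3]) i)) = true := by decide +kernel
    refine mul_inv_eq_one.1 (pi_injective ?_)
    rw [map_one]
    have hv1 : ∀ y ∈ [3] ++ W4.getD x [], y < 7 := fun y hy =>
      (List.mem_append.1 hy).elim (fun h => by rw [List.mem_singleton.1 h]; norm_num) (hv y)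
    have hv2 : ∀ y ∈ W4.getD x [] ++ [3], y < 7 := fun y hy =>
      (List.mem_append.1 hy).elim (hv y) (fun h => by rw [List.mem_singleton.1 h]; norm_num)
    refine eq_one_of_base ⟨_, rfl⟩ fun p hp => ?_
    have hr : (gword perm_ok.sigma ([3] ++ W4.getD x []))⁻¹ p =
        (gword perm_ok.sigma (W4.getD x [] ++ [3]))⁻¹ p := by
      refine Fin.ext ?_
      rw [perm_ok.gword_inv_apply _ hv1, perm_ok.gword_inv_apply _ hv2]
      refine Nat.eq_of_beq_eq_true (List.all_eq_true.1 (List.all_eq_true.1 hc x (List.mem_range.2 hx))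
        (p : ℕ) ?_)
      simp only [List.mem_cons, List.not_mem_nil, or_false] at hp
      rcases hp with rfl | rfl | rfl | rfl <;> simp [pt_val]
    rw [map_mul, map_inv, pi_gword _ hv1, pi_gword _ hv2, Equiv.Perm.mul_apply, ← hr]
    simp
  have hle : toPts.range ≤ C.map pi := by
    rw [toPts, MonoidHom.range_comp, Subgroup.range_subtype, Gamma, MonoidHom.map_closure,
      Subgroup.closure_le]
    rintro _ ⟨_, ⟨x, hx, rfl⟩, rfl⟩
    refine ⟨_, hcomm x hx, ?_⟩
    rw [pi_gword _ (W4_lt x)]
    show _ = (pairG x).1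
    rw [pairG, letterVal_lt _ hx]
    rfl
  have hC : toPts.range = C.map pi := Subgroup.eq_of_le_of_card_ge hle (by
    rw [← Nat.card_congr (Subgroup.equivMapOfInjective _ _ pi_injective).toEquiv]
    exact card_centralizer_le.trans card_toPts_ge)
  -- the matrix side
  have hdet : ∀ x, x < 4 → (matOf x).det = 1 := fun x hx => det_eq_one_of_mul (matOf_mul x hx)
  let m : ℕ → SL2F 5 := fun x => if h : x < 4 then ⟨matOf x, hdet x h⟩ else 1
  have hm : ∀ x < 4, ((m x : SL2F 5) : Matrix (Fin 5) (Fin 5) (ZMod 2)) = matOf x := fun x hx => by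
    rw [show m x = ⟨matOf x, hdet x hx⟩ from dif_pos hx]
  have hmC : ∀ x < 4, m x ∈ Subgroup.centralizer {s} := fun x hx => by
    rw [Subgroup.mem_centralizer_iff]
    intro y hy
    rw [Set.mem_singleton_iff.1 hy]
    refine Subtype.ext ?_
    rw [Matrix.SpecialLinearGroup.coe_mul, Matrix.SpecialLinearGroup.coe_mul, hm x hx, hs]
    exact (matOf_comm x hx).symm
  have hle2 : to16.range ≤ (act hs).range := by
    rw [to16, MonoidHom.range_comp, Subgroup.range_subtype, Gamma, MonoidHom.map_closure,
      Subgroup.closure_le]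
    rintro _ ⟨_, ⟨x, hx, rfl⟩, rfl⟩
    refine ⟨⟨m x, hmC x hx⟩, Equiv.ext fun k => ?_⟩
    show actFun ((m x : SL2F 5) : Matrix (Fin 5) (Fin 5) (ZMod 2)) k = (pairG x).2 k
    rw [pairG, letterVal_lt _ hx]
    show _ = ok16.sigma x k
    have h4 := (iv4_cases x hx).1
    have hiv : iv4 (iv4 x) = x := by rw [iv4, iv4, Nat.xor_assoc, Nat.xor_self, Nat.xor_zero]
    have h' : ok16.sigma x = (ok16.sigma (iv4 x))⁻¹ := by
      have := ok16.sigma_iv (show iv4 x < D16.L from h4)
      rwa [show D16.iv (iv4 x) = x from hiv] at this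
    refine Fin.ext ?_
    rw [h', ok16.sigma_inv_apply (show iv4 x < D16.L from h4), hm x hx]
    have h := matOf_moves (iv4 x) h4 k
    rw [hiv] at h
    exact h
  have hCS : to16.range = (act hs).range := Subgroup.eq_of_le_of_card_ge hle2 (by
    rw [← Nat.card_congr (MonoidHom.ofInjective (act_injective hs)).toEquiv]
    exact (CfsgLib.CosetEnum.He.Cent.card_centralizer_le' hs).trans card_to16_ge)
  exact ⟨((((Subgroup.equivMapOfInjective C pi pi_injective).trans
    (MulEquiv.subgroupCongr hC.symm)).trans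
    (MulEquiv.ofBijective _ (bijective_of_ge toPts card_toPts_ge)).symm).trans
    ((MulEquiv.ofBijective _ (bijective_of_ge to16 card_to16_ge)).trans
      (MulEquiv.subgroupCongr hCS))).trans
    (MonoidHom.ofInjective (act_injective hs)).symm⟩

end CfsgLib.CosetEnum.He.Cent
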