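import Cfsg.Agent.CosetEnum.He.Order
import Cfsg.Agent.CosetEnum.He.Cent.ConjCheck

/-!
The centralizer of the involution `d` of the Held group has order at most 21504: it permutes the
42 fixed points of `d`, and in the point stabilizer `d` has at least 3825 conjugates.
-/

set_option autoImplicit false

namespace CfsgLib.CosetEnum.He.Cent

/-- the involution -/
noncomputable def z0 : Cfsg.Spor.He := g7 3

theorem gword_app (v w : List ℕ) : gword g7 (v ++ w) = gword g7 v * gword g7 w := by
  simp [gword, List.map_append, List.prod_append]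

theorem z0_eq : z0 = gword g7 [3] := by rw [gword_cons, gword_nil, mul_one]; rfl

theorem z0_sq : z0 * z0 = 1 := by
  have h := g7_inv 3
  show g7 3 * g7 3 = 1
  nth_rewrite 2 [h]
  rw [mul_inv_cancel]

/-- the encoded conjugating words, in order -/
def conjFlat : List ℕ := conjAll.flatten

theorem conj_check_all : ∀ k, k < 15 →
    ((conjAll.getD k []).all inH &&
      ((conjAll.getD k []).map (fun e => codeOf (conjWord e)) == codeAll.getD k [])) = true := by
  intro k hk
  interval_cases k
  exacts [conj_check0, conj_check1, conj_check2, conj_check3, conj_check4, conj_check5, conj_check6,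
    conj_check7, conj_check8, conj_check9, conj_check10, conj_check11, conj_check12, conj_check13,
    conj_check14]

theorem part_facts {l : List ℕ} (hl : l ∈ conjAll) :
    ∃ k, k < 15 ∧ conjAll.getD k [] = l := by
  obtain ⟨k, hk, he⟩ := List.getElem_of_mem hl
  exact ⟨k, hk, (List.getD_eq_getElem _ _ hk).trans he⟩

theorem inH_of_mem {e : ℕ} (he : e ∈ conjFlat) : inH e = true := by
  obtain ⟨l, hl, hel⟩ := List.mem_flatten.1 he
  obtain ⟨k, hk, rfl⟩ := part_facts hl
  exact List.all_eq_true.1 (Bool.and_eq_true _ _ ▸ conj_check_all k hk).1 e hel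

theorem codes_eq : conjFlat.map (fun e => codeOf (conjWord e)) = codeAll.flatten := by
  rw [conjFlat, List.map_flatten]
  refine congrArg List.flatten (List.ext_getElem (by decide +kernel) fun k h1 h2 => ?_)
  rw [List.length_map] at h1
  have h := beq_iff_eq.1 (Bool.and_eq_true _ _ ▸ conj_check_all k h1).2
  rw [List.getD_eq_getElem _ _ h1, List.getD_eq_getElem _ _ h2] at h
  rw [List.getElem_map]
  exact h

/-- the list is strictly increasing -/
def increasing : List ℕ → Bool
  | [] => true
  | [_] => true
  | a :: b :: l => Nat.blt a b && increasing (b :: l)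

theorem nodup_of_increasing : ∀ {l : List ℕ}, increasing l = true → l.Pairwise (· < ·)
  | [], _ => List.Pairwise.nil
  | [a], _ => List.pairwise_singleton _ a
  | a :: b :: l, h => by
    rw [increasing, Bool.and_eq_true] at h
    have hab : a < b := by simpa [Nat.blt, Nat.ble_eq] using h.1
    have ih := nodup_of_increasing h.2
    refine List.pairwise_cons.2 ⟨fun x hx => ?_, ih⟩
    rcases List.mem_cons.1 hx with rfl | hx
    · exact hab
    · exact hab.trans ((List.pairwise_cons.1 ih).1 x hx)

theorem codes_nodup : (conjFlat.map (fun e => codeOf (conjWord e))).Nodup := by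
  rw [codes_eq]
  refine (nodup_of_increasing ?_).imp fun h => ne_of_lt h
  decide +kernel

/-- the conjugator -/
noncomputable def uElt (e : ℕ) : Cfsg.Spor.He := gword g7 (decodeW 64 e)

theorem small_decode {e : ℕ} (he : e ∈ conjFlat) : ∀ x ∈ decodeW 64 e, x < 7 := fun x hx => by
  have := List.all_eq_true.1 (Bool.and_eq_true _ _ ▸ inH_of_mem he).1 x hx
  simpa [Nat.blt, Nat.ble_eq] using this

theorem uElt_mem {e : ℕ} (he : e ∈ conjFlat) : uElt e ∈ Hs := by
  have hs := small_decode he
  rw [mem_Hs_iff, uElt, pi_gword _ hs]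
  refine (Equiv.Perm.inv_eq_iff_eq.1 (Fin.ext ?_)).symm
  rw [perm_ok.gword_inv_apply _ hs]
  exact Nat.eq_of_beq_eq_true (Bool.and_eq_true _ _ ▸ inH_of_mem he).2

theorem conj_eq {e : ℕ} : gword g7 (conjWord e) = (uElt e)⁻¹ * z0 * uElt e := by
  have h := gword_inverse g7 (fun y => y) g7_inv (decodeW 64 e)
  rw [List.map_id'] at h
  rw [conjWord, gword_app, gword_app, h, ← z0_eq]
  rfl

theorem small_conj {e : ℕ} (he : e ∈ conjFlat) : ∀ x ∈ conjWord e, x < 7 := fun x hx => by
  simp only [conjWord, List.mem_append, List.mem_reverse, List.mem_singleton] at hx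
  rcases hx with (h | h) | h
  exacts [small_decode he x h, by omega, small_decode he x h]

theorem conj_inj {e e' : ℕ} (he : e ∈ conjFlat) (he' : e' ∈ conjFlat)
    (h : gword g7 (conjWord e) = gword g7 (conjWord e')) : e = e' := by
  refine List.inj_on_of_nodup_map codes_nodup he he' ?_
  have key : ∀ i, i < 2058 → runT Tab.perm.T Tab.perm.L (conjWord e) i =
      runT Tab.perm.T Tab.perm.L (conjWord e') i := fun i hi => by
    have h1 := perm_ok.gword_inv_apply _ (small_conj he) ⟨i, hi⟩
    have h2 := perm_ok.gword_inv_apply _ (small_conj he') ⟨i, hi⟩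
    rw [← pi_gword _ (small_conj he), h, pi_gword _ (small_conj he')] at h1
    exact h1.symm.trans h2
  show codeOf _ = codeOf _
  rw [codeOf, codeOf, key 0 (by norm_num), key 1 (by norm_num), key 180 (by norm_num),
    key 1380 (by norm_num)]

theorem conjFlat_length : conjFlat.length = 3825 := by decide +kernel

/-- the elements of `Hs` commuting with the involution -/
noncomputable def CH : Subgroup Hs := (Subgroup.centralizer {z0}).subgroupOf Hs

theorem card_CH_le : Nat.card CH ≤ 512 := by
  have := finite_he
  have hidx : 3825 ≤ CH.index := by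
    let f : Fin conjFlat.length → Hs ⧸ CH := fun i =>
      QuotientGroup.mk ⟨(uElt conjFlat[i])⁻¹, inv_mem (uElt_mem (List.getElem_mem i.2))⟩
    have hf : Function.Injective f := by
      intro i j hij
      have h := QuotientGroup.eq.1 hij
      rw [CH, Subgroup.mem_subgroupOf, Subgroup.mem_centralizer_iff] at h
      have h' := h z0 rfl
      simp only [Subgroup.coe_mul, Subgroup.coe_inv, inv_inv] at h'
      have e : (uElt conjFlat[i])⁻¹ * z0 * uElt conjFlat[i] =
          (uElt conjFlat[j])⁻¹ * z0 * uElt conjFlat[j] := by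
        calc (uElt conjFlat[i])⁻¹ * z0 * uElt conjFlat[i]
            = (uElt conjFlat[i])⁻¹ * (z0 * (uElt conjFlat[i] * (uElt conjFlat[j])⁻¹)) *
              uElt conjFlat[j] := by simp [mul_assoc]
          _ = (uElt conjFlat[j])⁻¹ * z0 * uElt conjFlat[j] := by rw [h']; simp [mul_assoc]
      have := conj_inj (List.getElem_mem i.2) (List.getElem_mem j.2) (by rw [conj_eq, conj_eq]; exact e)
      have hn : conjFlat.Nodup := List.Nodup.of_map _ codes_nodup
      exact Fin.ext ((List.Nodup.getElem_inj_iff hn).1 this)
    have h := Nat.card_le_card_of_injective f hf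
    rwa [Nat.card_fin, conjFlat_length, ← Subgroup.index_eq_card] at h
  have h := CH.card_mul_index
  rw [card_Hs] at h
  nlinarith [Nat.mul_le_mul_left (Nat.card CH) hidx]

theorem count_fix : countLabel (fun i => bif Nat.beq (runT Tab.perm.T Tab.perm.L [3] i) i then 1 else 0)
    1 2058 = 42 := by decide +kernel

theorem card_centralizer_le : Nat.card (Subgroup.centralizer {z0}) ≤ 21504 := by
  classical
  have := finite_he
  set C := Subgroup.centralizer {z0}
  have hfix : pi z0 P0 = P0 := by
    refine (mem_Hs_iff z0).1 ?_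
    rw [z0_eq]
    exact Subgroup.subset_closure ⟨[3], by decide +kernel, rfl⟩
  let F : Set (Fin Tab.perm.n) := {i | pi z0 i = i}
  let f : C → F := fun c => ⟨pi c P0, by
    show pi z0 (pi c P0) = pi c P0
    rw [← Equiv.Perm.mul_apply, ← map_mul, Subgroup.mem_centralizer_iff.1 c.2 z0 rfl, map_mul,
      Equiv.Perm.mul_apply, hfix]⟩
  have hF : Nat.card F = 42 := by
    rw [← count_fix, Nat.card_coe_set_eq, ← ncard_label]
    refine congrArg Set.ncard (Set.ext fun i => ?_)
    have hs : ∀ x ∈ [3], x < Tab.perm.L := by decide +kernel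
    have h1 := perm_ok.gword_inv_apply [3] hs i
    rw [← pi_gword [3] (by simp), ← z0_eq] at h1
    show pi z0 i = i ↔ (bif Nat.beq (runT Tab.perm.T Tab.perm.L [3] i) i then 1 else 0) = 1
    rw [← h1, ← map_inv, inv_eq_of_mul_eq_one_right z0_sq]
    by_cases hi : pi z0 i = i
    · simp [hi]
    · have : Nat.beq (pi z0 i : ℕ) i = false := by
        rw [Bool.eq_false_iff]
        exact fun hb => hi (Fin.ext (Nat.eq_of_beq_eq_true hb))
      simp [hi, this]
  have hfib : ∀ p : F, Nat.card {c : C // f c = p} ≤ 512 := by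
    intro p
    by_cases hp : Nonempty {c : C // f c = p}
    swap
    · rw [not_nonempty_iff] at hp
      simp
    obtain ⟨⟨c0, hc0⟩⟩ := hp
    refine le_trans (Nat.card_le_card_of_injective (fun c : {c : C // f c = p} =>
      (⟨⟨(c0 : Cfsg.Spor.He)⁻¹ * c.1.1, ?_⟩, ?_⟩ : CH)) ?_) card_CH_le
    · rw [mem_Hs_iff, map_mul, map_inv, Equiv.Perm.mul_apply, Equiv.Perm.inv_eq_iff_eq]
      exact congrArg Subtype.val (c.2.trans hc0.symm)
    · exact mul_mem (inv_mem c0.2) c.1.2
    · intro a b hab
      have h := congrArg (fun x : CH => (x.1 : Cfsg.Spor.He)) hab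
      exact Subtype.ext (Subtype.ext (mul_left_cancel h))
  have : Fintype F := Fintype.ofFinite _
  rw [← Nat.card_congr (Equiv.sigmaFiberEquiv f), Nat.card_sigma]
  calc ∑ p, Nat.card {c : C // f c = p} ≤ ∑ _p : F, 512 := Finset.sum_le_sum fun p _ => hfib p
    _ = 21504 := by rw [Finset.sum_const, Finset.card_univ, ← Nat.card_eq_fintype_card, hF]; rfl

end CfsgLib.CosetEnum.He.Cent
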